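import Mathlib

/-!
# An induction principle: residue fields generate all modules over a Noetherian ring
-/

universe u

open CategoryTheory CategoryTheory.Limits

namespace Groth.Agent.ResidueDetect

variable {A : Type u} [CommRing A]

section FG

variable (M : ModuleCat.{u} A)

/-- Finitely generated submodules. -/
abbrev FGSub : Type u := {N : Submodule A M // N.FG}

instance : SemilatticeSup (FGSub M) := Subtype.semilatticeSup fun _ _ => Submodule.FG.sup

instance : Nonempty (FGSub M) := ⟨⟨⊥, Submodule.fg_bot⟩⟩

/-- The diagram of finitely generated submodules. -/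
noncomputable def fgDiag : FGSub M ⥤ ModuleCat.{u} A where
  obj N := ModuleCat.of A N.1
  map h := ModuleCat.ofHom (Submodule.inclusion (leOfHom h))

/-- The canonical cocone. -/
noncomputable def fgCocone : Cocone (fgDiag M) where
  pt := M
  ι := { app := fun N => ModuleCat.ofHom N.1.subtype }

theorem fgCocone_compat (s : Cocone (fgDiag M)) {N N' : FGSub M} (h : N ≤ N') {x : M} (hx : x ∈ N.1) :
    (s.ι.app N').hom ⟨x, h hx⟩ = (s.ι.app N).hom ⟨x, hx⟩ := by
  have := congrArg (fun g => g.hom ⟨x, hx⟩) (s.w (homOfLE h))
  exact this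

theorem fgCocone_value (s : Cocone (fgDiag M)) (N N' : FGSub M) {x : M} (hx : x ∈ N.1) (hx' : x ∈ N'.1) :
    (s.ι.app N).hom ⟨x, hx⟩ = (s.ι.app N').hom ⟨x, hx'⟩ :=
  (fgCocone_compat M s (le_sup_left : N ≤ N ⊔ N') hx).symm.trans
    (fgCocone_compat M s (le_sup_right : N' ≤ N ⊔ N') hx')

/-- The span of one element. -/
abbrev fgSpan (x : M) : FGSub M := ⟨Submodule.span A {x}, Submodule.fg_span_singleton x⟩

/-- The descended map. -/
noncomputable def fgDesc (s : Cocone (fgDiag M)) : M →ₗ[A] s.pt where
  toFun x := (s.ι.app (fgSpan M x)).hom ⟨x, Submodule.mem_span_singleton_self x⟩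
  map_add' x y := by
    let N : FGSub M := fgSpan M x ⊔ fgSpan M y
    have hx : x ∈ N.1 := Submodule.mem_sup_left (Submodule.mem_span_singleton_self x)
    have hy : y ∈ N.1 := Submodule.mem_sup_right (Submodule.mem_span_singleton_self y)
    rw [fgCocone_value M s (fgSpan M (x + y)) N _ (N.1.add_mem hx hy),
      fgCocone_value M s (fgSpan M x) N _ hx, fgCocone_value M s (fgSpan M y) N _ hy, ← map_add]
    rfl
  map_smul' a x := by
    have hx : a • x ∈ (fgSpan M x).1 := Submodule.smul_mem _ a (Submodule.mem_span_singleton_self x)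
    rw [fgCocone_value M s (fgSpan M (a • x)) (fgSpan M x) _ hx, RingHom.id_apply, ← map_smul]
    rfl

/-- A module is the filtered colimit of its finitely generated submodules. -/
noncomputable def fgIsColimit : IsColimit (fgCocone M) where
  desc s := ModuleCat.ofHom (fgDesc M s)
  fac s N := by
    refine ModuleCat.hom_ext (LinearMap.ext fun x => ?_)
    exact fgCocone_value M s _ N _ x.2
  uniq s m hm := by
    refine ModuleCat.hom_ext (LinearMap.ext fun x => ?_)
    exact congrArg (fun g => g.hom ⟨x, Submodule.mem_span_singleton_self x⟩) (hm (fgSpan M x))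

end FG

variable [IsNoetherianRing A]

/-- A class of modules closed under extensions, kernels of epimorphisms and filtered colimits that
contains all residue fields contains every module. -/
theorem residue_induction (G : ModuleCat.{u} A → Prop)
    (zero : ∀ X : ModuleCat.{u} A, IsZero X → G X)
    (iso : ∀ {X Y : ModuleCat.{u} A}, (X ≅ Y) → G X → G Y)
    (mid : ∀ S : ShortComplex (ModuleCat.{u} A), S.ShortExact → G S.X₁ → G S.X₃ → G S.X₂)
    (left : ∀ S : ShortComplex (ModuleCat.{u} A), S.ShortExact → G S.X₂ → G S.X₃ → G S.X₁)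
    (colim : ∀ (J : Type u) [SmallCategory J] [IsFiltered J] (D : J ⥤ ModuleCat.{u} A) (c : Cocone D),
      IsColimit c → (∀ j, G (D.obj j)) → G c.pt)
    (res : ∀ (x : Ideal A) [x.IsPrime], G (ModuleCat.of A x.ResidueField))
    (N : ModuleCat.{u} A) : G N := by
  have ext : ∀ (I : Ideal A), (∀ q : Ideal A, q.IsPrime → I ≤ q → G (ModuleCat.of A (A ⧸ q))) →
      ∀ (M : Type u) [AddCommGroup M] [Module A M], Module.Finite A M →
        I ≤ Module.annihilator A M → G (ModuleCat.of A M) := by
    intro I hI M _ _ hfin
    induction hfin using IsNoetherianRing.induction_on_isQuotientEquivQuotientPrime A with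
    | subsingleton M => exact fun _ => zero _ (ModuleCat.isZero_of_subsingleton _)
    | quotient M q e =>
      intro hM
      refine iso e.symm.toModuleIso (hI q.1 q.2 ?_)
      rw [e.annihilator_eq, Ideal.annihilator_quotient] at hM
      exact hM
    | exact N₁ N₂ N₃ f g hf hg hfg h₁ h₃ =>
      intro hM
      refine mid (ShortComplex.mk (ModuleCat.ofHom f) (ModuleCat.ofHom g)
        (ModuleCat.hom_ext hfg.linearMap_comp_eq_zero))
        { exact := (ShortComplex.ShortExact.moduleCat_exact_iff_function_exact _).mpr hfg
          mono_f := (ModuleCat.mono_iff_injective _).mpr hf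
          epi_g := (ModuleCat.epi_iff_surjective _).mpr hg }
        (h₁ (hM.trans (f.annihilator_le_of_injective hf))) (h₃ (hM.trans (g.annihilator_le_of_surjective hg)))
  have hprime : ∀ q : Ideal A, q.IsPrime → G (ModuleCat.of A (A ⧸ q)) := by
    intro q
    induction q using IsNoetherian.induction with
    | hgt q ih =>
      intro hq
      let ι : (A ⧸ q) →ₗ[A] (Ideal.ResidueField q) := (IsScalarTower.toAlgHom A (A ⧸ q) (Ideal.ResidueField q)).toLinearMap
      have hι : Function.Injective ι := IsFractionRing.injective (A ⧸ q) (Ideal.ResidueField q)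
      let S : ShortComplex (ModuleCat.{u} A) :=
        ShortComplex.mk (ModuleCat.ofHom ι) (ModuleCat.ofHom (LinearMap.range ι).mkQ)
          (ModuleCat.hom_ext (LinearMap.exact_map_mkQ_range ι).linearMap_comp_eq_zero)
      refine left S
        { exact := (ShortComplex.ShortExact.moduleCat_exact_iff_function_exact _).mpr
            (LinearMap.exact_map_mkQ_range ι)
          mono_f := (ModuleCat.mono_iff_injective _).mpr hι
          epi_g := (ModuleCat.epi_iff_surjective _).mpr (Submodule.mkQ_surjective _) } (res q) ?_
      refine colim _ (fgDiag S.X₃) (fgCocone S.X₃) (fgIsColimit S.X₃) fun W => ?_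
      obtain ⟨W, hW⟩ := W
      change G (ModuleCat.of A W)
      -- each element is killed by `q` and by something outside `q`
      have hkill : ∀ z : (Ideal.ResidueField q) ⧸ LinearMap.range ι, ∃ s ∉ q, s • z = 0 := by
        intro z
        obtain ⟨z, rfl⟩ := Submodule.Quotient.mk_surjective _ z
        obtain ⟨⟨a, s⟩, hz⟩ := IsLocalization.surj (nonZeroDivisors (A ⧸ q)) z
        obtain ⟨s', hs'⟩ := Ideal.Quotient.mk_surjective (s : A ⧸ q)
        refine ⟨s', fun hmem => ?_, ?_⟩
        · exact nonZeroDivisors.ne_zero s.2 (hs' ▸ Ideal.Quotient.eq_zero_iff_mem.2 hmem)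
        · rw [← Submodule.Quotient.mk_smul, Submodule.Quotient.mk_eq_zero]
          refine ⟨a, ?_⟩
          show algebraMap (A ⧸ q) (Ideal.ResidueField q) a = _
          rw [Algebra.smul_def, IsScalarTower.algebraMap_apply A (A ⧸ q) (Ideal.ResidueField q), mul_comm, ← hz]
          rw [show algebraMap A (A ⧸ q) s' = (s : A ⧸ q) from hs']
      have hq' : ∀ t ∈ q, ∀ z : (Ideal.ResidueField q) ⧸ LinearMap.range ι, t • z = 0 := by
        intro t ht z
        obtain ⟨z, rfl⟩ := Submodule.Quotient.mk_surjective _ z
        rw [← Submodule.Quotient.mk_smul, Algebra.smul_def,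
          IsScalarTower.algebraMap_apply A (A ⧸ q) (Ideal.ResidueField q),
          show algebraMap A (A ⧸ q) t = 0 from Ideal.Quotient.eq_zero_iff_mem.2 ht, map_zero, zero_mul,
          Submodule.Quotient.mk_zero]
      have hann : ∃ s ∉ q, ∀ z ∈ W, s • z = 0 := by
        classical
        obtain ⟨T, hT⟩ := hW
        choose s hs hsz using hkill
        refine ⟨∏ z ∈ T, s z, fun h => ?_, fun z hz => ?_⟩
        · obtain ⟨z, -, hz⟩ := (Ideal.IsPrime.prod_mem_iff (p := q)).1 h
          exact hs z hz
        · rw [← hT] at hz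
          induction hz using Submodule.span_induction with
          | mem z hz =>
            rw [← Finset.mul_prod_erase T s hz, mul_comm, mul_smul]
            exact (congrArg _ (hsz z)).trans (smul_zero _)
          | zero => exact smul_zero _
          | add x y _ _ hx hy => rw [smul_add, hx, hy, add_zero]
          | smul a x _ hx => rw [smul_comm, hx, smul_zero]
      obtain ⟨s, hs, hsW⟩ := hann
      refine ext (q ⊔ Ideal.span {s}) (fun p hp hle => ih p ?_ hp) W (Module.Finite.iff_fg.2 hW) ?_
      · refine lt_of_le_of_ne (le_sup_left.trans hle) fun h => hs ?_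
        rw [h]
        exact hle (Submodule.mem_sup_right (Ideal.mem_span_singleton_self s))
      · refine sup_le (fun t ht => Module.mem_annihilator.2 fun z => Subtype.ext (hq' t ht z.1)) ?_
        rw [Ideal.span_singleton_le_iff_mem, Module.mem_annihilator]
        exact fun z => Subtype.ext (hsW z.1 z.2)
  refine colim _ (fgDiag N) (fgCocone N) (fgIsColimit N) fun W => ?_
  obtain ⟨W, hW⟩ := W
  exact ext ⊥ (fun q hq _ => hprime q hq) W (Module.Finite.iff_fg.2 hW) bot_le

end Groth.Agent.ResidueDetect
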