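import Groth.Agent.ResidueDetect.Tor
import Mathlib.Algebra.Homology.HomologySequenceLemmas

/-!
# A map of modules which is an isomorphism on all `Tor` with residue fields is an isomorphism
-/

universe u

open CategoryTheory CategoryTheory.Limits MonoidalCategory

namespace Groth.Agent.ResidueDetect

open FTorColim (tensorCx)
open HomologicalComplex HomologicalComplex.HomologySequence

variable {A : Type u} [CommRing A]

section Five

open ComposableArrows Abelian

variable {S₁ S₂ : ShortComplex (ChainComplex (ModuleCat.{u} A) ℕ)} (φ : S₁ ⟶ S₂)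
  (hS₁ : S₁.ShortExact) (hS₂ : S₂.ShortExact)

include hS₁ hS₂

theorem isIso_τ₁ (h₂ : ∀ i, IsIso (homologyMap φ.τ₂ i)) (h₃ : ∀ i, IsIso (homologyMap φ.τ₃ i)) (j : ℕ) :
    IsIso (homologyMap φ.τ₁ j) := by
  have hij : (ComplexShape.down ℕ).Rel (j + 1) j := by simp
  exact isIso_of_epi_of_isIso_of_isIso_of_mono
    (composableArrows₅_exact hS₁ (j + 1) j hij).δ₀ (composableArrows₅_exact hS₂ (j + 1) j hij).δ₀
    (δ₀Functor.map (mapComposableArrows₅ φ hS₁ hS₂ (j + 1) j hij))
    (@IsIso.epi_of_iso _ _ _ _ _ (h₂ (j + 1))) (h₃ (j + 1)) (h₂ j) (@IsIso.mono_of_iso _ _ _ _ _ (h₃ j))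

theorem isIso_τ₂ (h₁ : ∀ i, IsIso (homologyMap φ.τ₁ i)) (h₃ : ∀ i, IsIso (homologyMap φ.τ₃ i)) (i : ℕ) :
    IsIso (homologyMap φ.τ₂ i) := by
  have hij : (ComplexShape.down ℕ).Rel (i + 1) i := by simp
  have hm : Mono (homologyMap φ.τ₂ i) :=
    mono_of_epi_of_mono_of_mono ((δ₀Functor ⋙ δ₀Functor).map (mapComposableArrows₅ φ hS₁ hS₂ (i + 1) i hij))
      (composableArrows₅_exact hS₁ (i + 1) i hij).δ₀.δ₀ (composableArrows₅_exact hS₂ (i + 1) i hij).δ₀.δ₀
      (@IsIso.epi_of_iso _ _ _ _ _ (h₃ (i + 1))) (@IsIso.mono_of_iso _ _ _ _ _ (h₁ i))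
      (@IsIso.mono_of_iso _ _ _ _ _ (h₃ i))
  have he : Epi (homologyMap φ.τ₂ i) := by
    rcases i with _ | k
    · refine epi_of_epi_of_epi_of_epi (mapComposableArrows₂ φ 0) (composableArrows₂_exact hS₂ 0) ?_
        (@IsIso.epi_of_iso _ _ _ _ _ (h₁ 0)) (@IsIso.epi_of_iso _ _ _ _ _ (h₃ 0))
      have := hS₁.epi_g
      exact epi_homologyMap_of_epi_of_not_rel S₁.g 0 (fun j hj => by simp at hj)
    · have hkl : (ComplexShape.down ℕ).Rel (k + 1) k := by simp
      exact epi_of_epi_of_epi_of_mono
        ((δlastFunctor ⋙ δlastFunctor).map (mapComposableArrows₅ φ hS₁ hS₂ (k + 1) k hkl))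
        (composableArrows₅_exact hS₁ (k + 1) k hkl).δlast.δlast
        (composableArrows₅_exact hS₂ (k + 1) k hkl).δlast.δlast
        (@IsIso.epi_of_iso _ _ _ _ _ (h₁ (k + 1))) (@IsIso.epi_of_iso _ _ _ _ _ (h₃ (k + 1)))
        (@IsIso.mono_of_iso _ _ _ _ _ (h₁ k))
  exact isIso_of_mono_of_epi _

end Five

/-- The natural transformation `- ⊗ P ⟶ - ⊗ Q` induced by a chain map. -/
noncomputable def tensorCxMap {P Q : ChainComplex (ModuleCat.{u} A) ℕ} (f : P ⟶ Q) :
    tensorCx P ⟶ tensorCx Q where
  app M := (((tensoringLeft (ModuleCat.{u} A)).obj M).mapHomologicalComplex _).map f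
  naturality M M' g := by
    ext i : 1
    exact (whisker_exchange g (f.f i)).symm

/-- On homology. -/
noncomputable def homMap {P Q : ChainComplex (ModuleCat.{u} A) ℕ} (f : P ⟶ Q) (i : ℕ) :
    tensorCx P ⋙ homologyFunctor (ModuleCat.{u} A) (ComplexShape.down ℕ) i ⟶
      tensorCx Q ⋙ homologyFunctor (ModuleCat.{u} A) (ComplexShape.down ℕ) i :=
  Functor.whiskerRight (tensorCxMap f) _

theorem isIso_tor_map_iff {M N : ModuleCat.{u} A} (u : M ⟶ N) (X : ModuleCat.{u} A) (i : ℕ) :
    IsIso (((CategoryTheory.Tor (ModuleCat.{u} A) i).obj X).map u) ↔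
      IsIso ((homMap (ProjectiveResolution.lift u (projectiveResolution M) (projectiveResolution N)) i).app X) := by
  have h := ProjectiveResolution.isoLeftDerivedObj_hom_naturality u (projectiveResolution M)
    (projectiveResolution N) (ProjectiveResolution.lift u (projectiveResolution M) (projectiveResolution N))
    (ProjectiveResolution.lift_commutes_zero u _ _) ((tensoringLeft (ModuleCat.{u} A)).obj X) i
  have e : Arrow.mk (((CategoryTheory.Tor (ModuleCat.{u} A) i).obj X).map u) ≅
      Arrow.mk ((homMap (ProjectiveResolution.lift u (projectiveResolution M) (projectiveResolution N)) i).app X) :=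
    Arrow.isoMk ((projectiveResolution M).isoLeftDerivedObj ((tensoringLeft (ModuleCat.{u} A)).obj X) i)
      ((projectiveResolution N).isoLeftDerivedObj ((tensoringLeft (ModuleCat.{u} A)).obj X) i) h.symm
  exact (MorphismProperty.isomorphisms (ModuleCat.{u} A)).arrow_mk_iso_iff e

variable [IsNoetherianRing A]

theorem isIso_of_residueFields {M N : ModuleCat.{u} A} (u : M ⟶ N)
    (h : ∀ (x : Ideal A) [x.IsPrime] (i : ℕ),
      IsIso (((CategoryTheory.Tor (ModuleCat.{u} A) i).obj (ModuleCat.of A x.ResidueField)).map u)) :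
    IsIso u := by
  let P := projectiveResolution M
  let Q := projectiveResolution N
  let f := ProjectiveResolution.lift u P Q
  have hall : ∀ X : ModuleCat.{u} A, ∀ i, IsIso ((homMap f i).app X) := by
    refine residue_induction (G := fun X => ∀ i, IsIso ((homMap f i).app X)) ?_ ?_ ?_ ?_ ?_ ?_
    · intro X hX i
      have hz : ∀ R : ChainComplex (ModuleCat.{u} A) ℕ,
          IsZero ((tensorCx R ⋙ homologyFunctor (ModuleCat.{u} A) (ComplexShape.down ℕ) i).obj X) := fun R => by
        refine (homologyFunctor (ModuleCat.{u} A) (ComplexShape.down ℕ) i).map_isZero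
          ((IsZero.iff_id_eq_zero _).2 ?_)
        ext k : 1
        show 𝟙 (X ⊗ R.X k) = 0
        rw [← id_whiskerRight, hX.eq_of_src (𝟙 X) 0, MonoidalPreadditive.zero_whiskerRight]
      exact ⟨⟨0, (hz _).eq_of_src _ _, (hz _).eq_of_src _ _⟩⟩
    · exact fun e hX i => (NatTrans.isIso_app_iff_of_iso (homMap f i) e).1 (hX i)
    · intro S hS h₁ h₃ i
      exact isIso_τ₂
        (ShortComplex.homMk ((tensorCxMap f).app S.X₁) ((tensorCxMap f).app S.X₂) ((tensorCxMap f).app S.X₃)
          ((tensorCxMap f).naturality S.f).symm ((tensorCxMap f).naturality S.g).symm :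
          DRingPC.tensorResSC (S := S) P ⟶ DRingPC.tensorResSC (S := S) Q)
        (DRingPC.tensorResSC_shortExact hS P) (DRingPC.tensorResSC_shortExact hS Q) h₁ h₃ i
    · intro S hS h₂ h₃ i
      exact isIso_τ₁
        (ShortComplex.homMk ((tensorCxMap f).app S.X₁) ((tensorCxMap f).app S.X₂) ((tensorCxMap f).app S.X₃)
          ((tensorCxMap f).naturality S.f).symm ((tensorCxMap f).naturality S.g).symm :
          DRingPC.tensorResSC (S := S) P ⟶ DRingPC.tensorResSC (S := S) Q)
        (DRingPC.tensorResSC_shortExact hS P) (DRingPC.tensorResSC_shortExact hS Q) h₂ h₃ i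
    · intro J _ _ D c hc hD i
      have hp : ∀ R : ChainComplex (ModuleCat.{u} A) ℕ,
          PreservesColimitsOfShape J (tensorCx R ⋙ homologyFunctor (ModuleCat.{u} A) (ComplexShape.down ℕ) i) := by
        intro R
        haveI : PreservesColimitsOfShape J (tensorCx R) :=
          HomologicalComplex.preservesColimitsOfShape_of_eval _ fun k =>
            show PreservesColimitsOfShape J (tensorRight (R.X k)) from
              preservesColimitsOfShape_of_natIso (BraidedCategory.tensorLeftIsoTensorRight (R.X k))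
        haveI := FTorColim.preservesColimitsOfShape_homologyFunctor (A := A) (ComplexShape.down ℕ) i J
        infer_instance
      haveI := hp P.complex
      haveI := hp Q.complex
      have hP := isColimitOfPreserves (tensorCx P.complex ⋙ homologyFunctor _ (ComplexShape.down ℕ) i) hc
      have hQ := isColimitOfPreserves (tensorCx Q.complex ⋙ homologyFunctor _ (ComplexShape.down ℕ) i) hc
      haveI : ∀ j, IsIso ((Functor.whiskerLeft D (homMap f i)).app j) := fun j => hD j i
      haveI : IsIso (Functor.whiskerLeft D (homMap f i)) := NatIso.isIso_of_isIso_app _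
      have heq : (homMap f i).app c.pt =
          (IsColimit.coconePointsIsoOfNatIso hP hQ (asIso (Functor.whiskerLeft D (homMap f i)))).hom := by
        refine hP.hom_ext fun j => ?_
        rw [IsColimit.comp_coconePointsIsoOfNatIso_hom]
        exact (homMap f i).naturality (c.ι.app j)
      rw [heq]
      infer_instance
    · intro x _ i
      exact (isIso_tor_map_iff u _ i).1 (h x i)
  have h0 := (isIso_tor_map_iff u (𝟙_ (ModuleCat.{u} A)) 0).2 (hall _ 0)
  let F := (tensoringLeft (ModuleCat.{u} A)).obj (𝟙_ (ModuleCat.{u} A))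
  haveI : PreservesFiniteColimits F :=
    inferInstanceAs (PreservesFiniteColimits (tensorLeft (𝟙_ (ModuleCat.{u} A))))
  have e : Arrow.mk (((CategoryTheory.Tor (ModuleCat.{u} A) 0).obj (𝟙_ (ModuleCat.{u} A))).map u) ≅ Arrow.mk u :=
    Arrow.isoMk ((F.leftDerivedZeroIsoSelf).app M ≪≫ λ_ M) ((F.leftDerivedZeroIsoSelf).app N ≪≫ λ_ N) (by
      show (F.leftDerivedZeroIsoSelf.hom.app M ≫ (λ_ M).hom) ≫ u =
        (F.leftDerived 0).map u ≫ F.leftDerivedZeroIsoSelf.hom.app N ≫ (λ_ N).hom
      rw [Category.assoc, ← MonoidalCategory.leftUnitor_naturality]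
      exact ((F.leftDerivedZeroIsoSelf.hom.naturality_assoc u _)).symm)
  exact ((MorphismProperty.isomorphisms (ModuleCat.{u} A)).arrow_mk_iso_iff e).1 h0

end Groth.Agent.ResidueDetect
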