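import Groth.Agent.ResidueDetect.Induction
import Groth.Agent.FTorColim.Homology
import Groth.Agent.FTorColim.Vanish

/-!
# Residue fields detect tor dimension and isomorphisms
-/

universe u

open CategoryTheory CategoryTheory.Limits MonoidalCategory

namespace Groth.Agent.ResidueDetect

open FTorColim (T tensorCx)

variable {A : Type u} [CommRing A] [IsNoetherianRing A]

theorem torDim_iff (M : ModuleCat.{u} A) (n : ℕ)
    (h : ∀ (x : Ideal A) [x.IsPrime] (i : ℕ), n < i → IsZero (T i (ModuleCat.of A x.ResidueField) M))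
    (N : ModuleCat.{u} A) (i : ℕ) (hi : n < i) : IsZero (T i N M) := by
  revert i
  refine residue_induction (G := fun N => ∀ i, n < i → IsZero (T i N M)) ?_ ?_ ?_ ?_ ?_ ?_ N
  · intro X hX i hi
    haveI : Subsingleton X := ModuleCat.subsingleton_of_isZero hX
    haveI : Module.Flat A X := inferInstance
    obtain ⟨q, rfl⟩ : ∃ q, i = q + 1 := ⟨i - 1, by omega⟩
    exact FTorColim.isZero_tor_succ_of_flat X M q
  · exact fun e hX i hi => FTorColim.isZero_tor_of_iso e (hX i hi)
  · exact fun S hS h₁ h₃ i hi => FTorColim.isZero_tor_mid hS M i (h₁ i hi) (h₃ i hi)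
  · exact fun S hS h₂ h₃ i hi => FTorColim.isZero_tor_left hS M i (h₃ (i + 1) (by omega)) (h₂ i hi)
  · intro J _ _ D c hc hD i hi
    haveI := FTorColim.preservesColimitsOfShape_tor_flip i M J
    have hc' := isColimitOfPreserves ((CategoryTheory.Tor (ModuleCat.{u} A) i).flip.obj M) hc
    rw [IsZero.iff_id_eq_zero]
    exact hc'.hom_ext fun j => (hD j i hi).eq_of_src _ _
  · exact fun x _ i hi => h x i hi

end Groth.Agent.ResidueDetect
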